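/-
Claim (N) for S2858 (K-S 10.3.11): in a counterexample with `|T|` minimal, `Q₁ ⊓ Q₂` is not
normal in `P₁`.  Definitions and exact package statements (paper proof: team note of helper45,
topic S2858).  Vocabulary of `Helper71.Sym` (`cj`, `LAmal`, `ZF`) and `Helper59.Amal.IHlt`.
-/
import Cfsg.Agent.Lib.Helper71.Sym.BDefs
import Cfsg.Agent.Lib.Helper59.Amal.SubQuot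
import Cfsg.Prelude.Def_Transfer

set_option autoImplicit false

namespace Cfsg.Agent.Lib.Helper45.S3Amal

open Cfsg.Agent.Lib.Helper71.Sym

universe u

/-- `H` normalizes `K` (elementwise form). -/
def Nz {G : Type*} [Group G] (H K : Subgroup G) : Prop := ∀ h ∈ H, ∀ k ∈ K, h * k * h⁻¹ ∈ K

/-- The global context of claim (N): `D = Q₁ ⊓ Q₂` is normal in `P₁`, `S = Q₂`, and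
`L` is the subgroup of index 2 of `P₁` with Sylow 2-subgroup `Q₂` and `O₂(L) = Q₁ ⊓ Q₂`. -/
structure NCtx {G : Type*} [Group G] (P₁ P₂ T Q₁ Q₂ L : Subgroup G) : Prop where
  a₁ : LAmal P₁ T Q₁
  a₂ : LAmal P₂ T Q₂
  z₁ : ZF P₁ T Q₁
  z₂ : ZF P₂ T Q₂
  core : ∀ N : Subgroup G, N ≤ T → Nz P₁ N → Nz P₂ N → N = ⊥
  nD : Nz P₁ (Q₁ ⊓ Q₂)
  SL : Q₂ ≤ L
  LP : L ≤ P₁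
  nL : Nz P₁ L
  aL : LAmal L Q₂ (Q₁ ⊓ Q₂)
  zL : ZF L Q₂ (Q₁ ⊓ Q₂)

/-- Conclusions (I1)-(I3) for a pair `(L₁, L₂)` with common Sylow subgroup `S`,
`D_i = O₂(L_i)`. -/
structure PairConcl {G : Type*} [Group G] (L₁ S D₁ D₂ : Subgroup G) : Prop where
  i1 : ∀ g ∈ S, g * g = 1 → g ∈ D₁ ∨ g ∈ D₂
  i2 : ∀ g ∈ L₁, cj g S ≠ S → ∀ h ∈ L₁, (D₁ ⊓ D₂) ⊓ cj g (D₁ ⊓ D₂) ≤ cj h (D₁ ⊓ D₂)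
  i3 : ¬ Nz L₁ (D₁ ⊓ D₂)

/-! ### Package statements -/

/-- NT: conjugation transport of `LAmal`. -/
def PkgNT : Prop := ∀ {G : Type u} [Group G] (H T Q : Subgroup G) (a : G),
  LAmal H T Q → LAmal (cj a H) (cj a T) (cj a Q)

/-- NS: an element of `bT` swapping the cosets `T` and `bT`. -/
def PkgNS : Prop := ∀ {G : Type u} [Group G] (P T Q : Subgroup G), LAmal P T Q → ZF P T Q →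
  ∀ b ∈ P, b ∉ T → ∃ t ∈ P, t⁻¹ * b ∈ T ∧ t * b ∈ T

/-- NL1: the subgroup `L` (local at `P`). -/
def PkgNL1 : Prop := ∀ {G : Type u} [Group G] (P T Q S : Subgroup G), LAmal P T Q → ZF P T Q →
  S ≤ T → Nat.card ↥T = 2 * Nat.card ↥S → S ≠ Q → Nz P (Q ⊓ S) →
  ∃ L : Subgroup G, S ≤ L ∧ L ≤ P ∧ Nz P L ∧ Nat.card ↥L = 3 * Nat.card ↥S ∧ L ⊓ Q ≤ S

/-- NL2: `C_L(D) ≤ D` (local at `P`). -/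
def PkgNL2 : Prop := ∀ {G : Type u} [Group G] (P T Q S L : Subgroup G), LAmal P T Q → ZF P T Q →
  S ≤ T → Nat.card ↥T = 2 * Nat.card ↥S → S ≠ Q → Nz P (Q ⊓ S) →
  S ≤ L → L ≤ P → Nz P L → Nat.card ↥L = 3 * Nat.card ↥S → L ⊓ Q ≤ S →
  ∀ c ∈ L, (∀ d ∈ Q ⊓ S, c * d = d * c) → c ∈ Q ⊓ S

/-- NZ: `Ω₁Z(Q₂)` is not central in `L`. -/
def PkgNZ : Prop := ∀ {G : Type u} [Group G] (P₁ P₂ T Q₁ Q₂ L : Subgroup G),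
  LAmal P₁ T Q₁ → LAmal P₂ T Q₂ → ZF P₁ T Q₁ → ZF P₂ T Q₂ →
  (∀ N : Subgroup G, N ≤ T → Nz P₁ N → Nz P₂ N → N = ⊥) →
  Q₂ ≤ L → L ≤ P₁ → Nat.card ↥L = 3 * Nat.card ↥Q₂ →
  ∃ z ∈ Q₂, z * z = 1 ∧ (∀ s ∈ Q₂, z * s = s * z) ∧ ∃ h ∈ L, h * z ≠ z * h

/-- NA: `J(Q₂) ≰ Q₁ ⊓ Q₂`. -/
def PkgNA : Prop := ∀ {G : Type u} [Group G] (P₁ P₂ T Q₁ Q₂ : Subgroup G),
  LAmal P₁ T Q₁ → LAmal P₂ T Q₂ →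
  (∀ N : Subgroup G, N ≤ T → Nz P₁ N → Nz P₂ N → N = ⊥) →
  Nz P₁ (Q₁ ⊓ Q₂) →
  ∃ A : Subgroup G, A ≤ Q₂ ∧ Cfsg.IsElementaryAbelian 2 A ∧
    (∀ B : Subgroup G, B ≤ Q₂ → Cfsg.IsElementaryAbelian 2 B → Nat.card ↥B ≤ Nat.card ↥A) ∧
    ¬ A ≤ Q₁ ⊓ Q₂

/-- NC: (h1) modulo a common normal subgroup `K` of `L` and `cj p L`. -/
def PkgNC : Prop := ∀ {G : Type u} [Group G] (P₁ P₂ T Q₁ Q₂ L : Subgroup G),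
  NCtx P₁ P₂ T Q₁ Q₂ L → ∀ p ∈ P₂, p ∉ T → ∀ K : Subgroup G, K ≤ Q₂ → Nz L K → Nz (cj p L) K →
  ∀ g ∈ L, (∀ d ∈ Q₁ ⊓ Q₂, g * d * g⁻¹ * d⁻¹ ∈ K) → g ∈ Q₁ ⊓ Q₂

/-- NEA: the induction step: `D_i / K` is elementary abelian. -/
def PkgNEA : Prop := ∀ (n : ℕ), Cfsg.Agent.Lib.Helper59.Amal.IHlt.{u} n →
  ∀ {G : Type u} [Group G] (L₁ L₂ S D₁ D₂ K : Subgroup G),
  LAmal L₁ S D₁ → LAmal L₂ S D₂ → ZF L₁ S D₁ → ZF L₂ S D₂ → D₁ ≠ D₂ → Nat.card ↥S < n →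
  (∃ t : G, cj t S = S ∧ cj t L₁ = L₂ ∧ cj t L₂ = L₁) →
  K ≤ S → Nz L₁ K → Nz L₂ K →
  (∀ N : Subgroup G, N ≤ S → Nz L₁ N → Nz L₂ N → N ≤ K) →
  (∀ g ∈ L₁, (∀ d ∈ D₁, g * d * g⁻¹ * d⁻¹ ∈ K) → g ∈ D₁) →
  (∀ g ∈ L₂, (∀ d ∈ D₂, g * d * g⁻¹ * d⁻¹ ∈ K) → g ∈ D₂) →
  (∀ d ∈ D₁, ∀ e ∈ D₁, d * d ∈ K ∧ d * e * d⁻¹ * e⁻¹ ∈ K) ∧
  (∀ d ∈ D₂, ∀ e ∈ D₂, d * d ∈ K ∧ d * e * d⁻¹ * e⁻¹ ∈ K)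

/-- NI: (I1)-(I3) from the induction step. -/
def PkgNI : Prop := ∀ {G : Type u} [Group G] (L₁ L₂ S D₁ D₂ K : Subgroup G),
  LAmal L₁ S D₁ → LAmal L₂ S D₂ → ZF L₁ S D₁ → ZF L₂ S D₂ → D₁ ≠ D₂ →
  (∃ t : G, cj t S = S ∧ cj t L₁ = L₂ ∧ cj t L₂ = L₁) →
  K ≤ S → Nz L₁ K → Nz L₂ K →
  (∀ N : Subgroup G, N ≤ S → Nz L₁ N → Nz L₂ N → N ≤ K) →
  (∀ g ∈ L₁, (∀ d ∈ D₁, g * d * g⁻¹ * d⁻¹ ∈ K) → g ∈ D₁) →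
  (∀ d ∈ D₁, ∀ e ∈ D₁, d * d ∈ K ∧ d * e * d⁻¹ * e⁻¹ ∈ K) →
  (∀ d ∈ D₂, ∀ e ∈ D₂, d * d ∈ K ∧ d * e * d⁻¹ * e⁻¹ ∈ K) →
  (∀ g ∈ S, g * g ∈ K → g ∈ D₁ ∨ g ∈ D₂) ∧
  (∀ g ∈ L₁, cj g S ≠ S → ∀ h ∈ L₁, (D₁ ⊓ D₂) ⊓ cj g (D₁ ⊓ D₂) ≤ cj h (D₁ ⊓ D₂)) ∧
  ¬ Nz L₁ (D₁ ⊓ D₂)

/-- The pair facts for any two distinct conjugates `cj a L`, `cj b L` (`a, b ∈ P₂`). -/
def PairAll : Prop := ∀ (n : ℕ), Cfsg.Agent.Lib.Helper59.Amal.IHlt.{u} n →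
  ∀ {G : Type u} [Group G] (P₁ P₂ T Q₁ Q₂ L : Subgroup G),
  NCtx P₁ P₂ T Q₁ Q₂ L → Nat.card ↥Q₂ < n →
  ∀ a ∈ P₂, ∀ b ∈ P₂, a⁻¹ * b ∉ T →
    PairConcl (cj a L) Q₂ (cj a (Q₁ ⊓ Q₂)) (cj b (Q₁ ⊓ Q₂))

/-- NP: glue of NT, ZL, NS, NC, NEA, NI to `PairAll`. -/
def PkgNP : Prop := PkgNT.{u} → PkgZL.{u} → PkgNS.{u} → PkgNC.{u} → PkgNEA.{u} → PkgNI.{u} →
  PairAll.{u}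

/-- NB: an elementary abelian `B ≤ D₁` lies in the `L`-core of `D₁ ⊓ D₂` or of `D₁ ⊓ D₃`. -/
def PkgNB : Prop := ∀ {G : Type u} [Group G] (L S D₁ D₂ D₃ B : Subgroup G),
  LAmal L S D₁ → ZF L S D₁ → D₂ ≤ S → D₃ ≤ S →
  (∀ g ∈ S, g * g = 1 → g ∈ D₂ ∨ g ∈ D₃) →
  (∀ g ∈ L, cj g S ≠ S → ∀ h ∈ L, (D₁ ⊓ D₂) ⊓ cj g (D₁ ⊓ D₂) ≤ cj h (D₁ ⊓ D₂)) →
  (∀ g ∈ L, cj g S ≠ S → ∀ h ∈ L, (D₁ ⊓ D₃) ⊓ cj g (D₁ ⊓ D₃) ≤ cj h (D₁ ⊓ D₃)) →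
  B ≤ D₁ → (∀ b ∈ B, b * b = 1) →
  (∀ h ∈ L, B ≤ cj h (D₁ ⊓ D₂)) ∨ (∀ h ∈ L, B ≤ cj h (D₁ ⊓ D₃))

/-- Claim (N). -/
def ClaimN : Prop := ∀ (n : ℕ), Cfsg.Agent.Lib.Helper59.Amal.IHlt.{u} n →
  ∀ {G : Type u} [Group G] (P₁ P₂ T Q₁ Q₂ : Subgroup G), LAmal P₁ T Q₁ → LAmal P₂ T Q₂ →
  (∀ N : Subgroup G, N ≤ T → Nz P₁ N → Nz P₂ N → N = ⊥) → Nat.card ↥T ≤ n →
  ¬ Nz P₁ (Q₁ ⊓ Q₂)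

end Cfsg.Agent.Lib.Helper45.S3Amal
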