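-- helper45: S2858 (S3-amalgams), Lemma J: the Thompson-subgroup argument that kills the
-- `normal type' configuration.
import Mathlib
import Cfsg.Prelude.Def_Transfer
import Cfsg.Agent.Lib.Helper71.JC.JCBasic
import Cfsg.Agent.Lib.Helper51.Basic
import Cfsg.Agent.Lib.Helper45.KS12.LemCount

set_option autoImplicit false

namespace Cfsg.Agent.Lib.Helper45.S3Amal

open Cfsg.Agent.Lib.Helper71.JC Cfsg.Agent.Lib.Helper51 Cfsg.Agent.Lib.Helper45.KS12

variable {L : Type*} [Group L]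

theorem relIndex_ne_zero_fin [Finite L] (H K : Subgroup L) : H.relIndex K ≠ 0 := by
  unfold Subgroup.relIndex
  exact Subgroup.index_ne_zero_of_finite

theorem elab_comm {B : Subgroup L} (hB : Cfsg.IsElementaryAbelian 2 B) {x y : L} (hx : x ∈ B)
    (hy : y ∈ B) : x * y = y * x := by
  have := hB.1
  exact setLike_mul_comm hx hy

theorem elab_sq {B : Subgroup L} (hB : Cfsg.IsElementaryAbelian 2 B) {x : L} (hx : x ∈ B) :
    x * x = 1 := by
  have := hB.2 x hx
  rwa [pow_two] at this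

theorem elab_mk {B : Subgroup L} (h1 : ∀ x ∈ B, ∀ y ∈ B, x * y = y * x)
    (h2 : ∀ x ∈ B, x * x = 1) : Cfsg.IsElementaryAbelian 2 B := by
  refine ⟨⟨⟨?_⟩⟩, ?_⟩
  · rintro ⟨x, hx⟩ ⟨y, hy⟩
    exact Subtype.ext (h1 x hx y hy)
  · intro x hx
    rw [pow_two]
    exact h2 x hx

theorem elab_of_le {B C : Subgroup L} (hB : Cfsg.IsElementaryAbelian 2 B) (hCB : C ≤ B) :
    Cfsg.IsElementaryAbelian 2 C :=
  elab_mk (fun x hx y hy => elab_comm hB (hCB hx) (hCB hy)) (fun x hx => elab_sq hB (hCB hx))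

theorem elab_map_conj {B : Subgroup L} (hB : Cfsg.IsElementaryAbelian 2 B) (l : L) :
    Cfsg.IsElementaryAbelian 2 (B.map (MulAut.conj l).toMonoidHom) := by
  apply elab_mk
  · rintro _ ⟨x, hx, rfl⟩ _ ⟨y, hy, rfl⟩
    show (MulAut.conj l) x * (MulAut.conj l) y = (MulAut.conj l) y * (MulAut.conj l) x
    rw [← map_mul, ← map_mul, elab_comm hB hx hy]
  · rintro _ ⟨x, hx, rfl⟩
    show (MulAut.conj l) x * (MulAut.conj l) x = 1
    rw [← map_mul, elab_sq hB hx, map_one]

/-- an element conjugating a finite subgroup into itself normalizes it -/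
theorem mem_normalizer_of_conj_le [Finite L] (N : Subgroup L) (r : L)
    (h : ∀ n ∈ N, r * n * r⁻¹ ∈ N) : r ∈ Subgroup.normalizer (N : Set L) := by
  rw [Subgroup.mem_normalizer_iff]
  intro x
  refine ⟨h x, fun hx => ?_⟩
  have hinj : Function.Injective (fun n : N => (⟨r * n.1 * r⁻¹, h n.1 n.2⟩ : N)) := by
    intro n n' hnn
    have h1 : r * n.1 * r⁻¹ = r * n'.1 * r⁻¹ := congrArg Subtype.val hnn
    exact Subtype.ext (mul_left_cancel (mul_right_cancel h1))
  obtain ⟨n, hn⟩ := (Finite.injective_iff_surjective.mp hinj) ⟨r * x * r⁻¹, hx⟩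
  have h1 : r * n.1 * r⁻¹ = r * x * r⁻¹ := congrArg Subtype.val hn
  have h2 : n.1 = x := mul_left_cancel (mul_right_cancel h1)
  rw [← h2]
  exact n.2

/-- a subgroup of prime index is maximal: a subgroup containing it properly is everything -/
theorem eq_top_of_index_three [Finite L] (S H : Subgroup L) (hS : S.index = 3) (hSH : S ≤ H)
    (x : L) (hxH : x ∈ H) (hxS : x ∉ S) : H = ⊤ := by
  have h1 := Subgroup.relIndex_mul_index hSH
  rw [hS] at h1
  have h2 : S.relIndex H ≠ 1 := by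
    intro hc
    rw [Subgroup.relIndex_eq_one] at hc
    exact hxS (hc hxH)
  have h3 : S.relIndex H ∣ 3 := ⟨_, h1.symm⟩
  have h4 : S.relIndex H = 3 := by
    rcases (Nat.dvd_prime Nat.prime_three).mp h3 with h5 | h5
    · exact absurd h5 h2
    · exact h5
  rw [h4] at h1
  have h5 : H.index = 1 := by omega
  exact Subgroup.index_eq_one.mp h5

/-- **Lemma J.** -/
theorem lemJ [Finite L]
    (D S : Subgroup L) [hDn : D.Normal] (hDS : D ≤ S) (hSD : D.relIndex S = 2)
    (hLS : S.index = 3) (g : L) (hg : S.map (MulAut.conj g).toMonoidHom ≠ S)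
    (V : Subgroup L) (hV : ∀ v : L, v ∈ V ↔ v ∈ D ∧ (∀ d ∈ D, d * v = v * d) ∧ v * v = 1)
    (hCV : ∀ x : L, (∀ v ∈ V, x * v = v * x) → x ∈ D)
    (D' : Subgroup L) (hD'S : D' ≤ S) (hD'n : ∀ s ∈ S, ∀ d ∈ D', s * d * s⁻¹ ∈ D')
    (V' : Subgroup L) (hV' : ∀ v : L, v ∈ V' ↔ v ∈ D' ∧ (∀ d ∈ D', d * v = v * d) ∧ v * v = 1)
    (hgen : ∀ N : Subgroup L, N.Normal → D ⊓ D' ≤ N → D ≤ N)
    (K : Subgroup L) [hKn : K.Normal] (hKD : K ≤ D) (hKD' : K ≤ D')
    (A : Subgroup L) (hAS : A ≤ S) (hA : Cfsg.IsElementaryAbelian 2 A)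
    (hAmax : ∀ B : Subgroup L, B ≤ S → Cfsg.IsElementaryAbelian 2 B → Nat.card B ≤ Nat.card A)
    (hAD : ¬ A ≤ D) (hBK : (A ⊓ D) ⊔ V ≤ K) : V' ≤ V := by
  classical
  -- basic facts on `V`, `V'`
  have hVD : V ≤ D := fun v hv => ((hV v).mp hv).1
  have hV'D' : V' ≤ D' := fun v hv => ((hV' v).mp hv).1
  have hVel : Cfsg.IsElementaryAbelian 2 V :=
    elab_mk (fun x hx y hy => ((hV y).mp hy).2.1 x (hVD hx)) (fun x hx => ((hV x).mp hx).2.2)
  have hV'el : Cfsg.IsElementaryAbelian 2 V' :=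
    elab_mk (fun x hx y hy => ((hV' y).mp hy).2.1 x (hV'D' hx)) (fun x hx => ((hV' x).mp hx).2.2)
  have hVn : ∀ l : L, ∀ v ∈ V, l * v * l⁻¹ ∈ V := by
    intro l v hv
    obtain ⟨h1, h2, h3⟩ := (hV v).mp hv
    rw [hV]
    refine ⟨hDn.conj_mem v h1 l, ?_, ?_⟩
    · intro d hd
      have hd' : l⁻¹ * d * l ∈ D := by
        have := hDn.conj_mem d hd l⁻¹
        rwa [inv_inv] at this
      have h4 := h2 _ hd'
      calc d * (l * v * l⁻¹) = l * ((l⁻¹ * d * l) * v) * l⁻¹ := by group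
        _ = l * (v * (l⁻¹ * d * l)) * l⁻¹ := by rw [h4]
        _ = l * v * l⁻¹ * d := by group
    · calc l * v * l⁻¹ * (l * v * l⁻¹) = l * (v * v) * l⁻¹ := by group
        _ = 1 := by rw [h3]; group
  have hV'n : ∀ s ∈ S, ∀ v ∈ V', s * v * s⁻¹ ∈ V' := by
    intro s hs v hv
    obtain ⟨h1, h2, h3⟩ := (hV' v).mp hv
    rw [hV']
    refine ⟨hD'n s hs v h1, ?_, ?_⟩
    · intro d hd
      have hd' : s⁻¹ * d * s ∈ D' := by
        have := hD'n s⁻¹ (S.inv_mem hs) d hd
        rwa [inv_inv] at this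
      have h4 := h2 _ hd'
      calc d * (s * v * s⁻¹) = s * ((s⁻¹ * d * s) * v) * s⁻¹ := by group
        _ = s * (v * (s⁻¹ * d * s)) * s⁻¹ := by rw [h4]
        _ = s * v * s⁻¹ * d := by group
    · calc s * v * s⁻¹ * (s * v * s⁻¹) = s * (v * v) * s⁻¹ := by group
        _ = 1 := by rw [h3]; group
  -- the index of `A ∩ D` in `A`
  have hSD0 : D.relIndex S ≠ 0 := by rw [hSD]; norm_num
  have hAidx : D.relIndex A = 2 := by
    have h1 : D.relIndex A ≤ 2 := by
      have := Subgroup.relIndex_le_of_le_right (H := D) hAS hSD0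
      rwa [hSD] at this
    have h2 : D.relIndex A ≠ 1 := fun hc => hAD (Subgroup.relIndex_eq_one.mp hc)
    have h3 : D.relIndex A ≠ 0 := relIndex_ne_zero_fin _ _
    omega
  have hAcard : Nat.card A = 2 * Nat.card ↥(A ⊓ D) := by
    have := relIndex_mul_card_inf D A
    rw [hAidx, inf_comm] at this
    exact this.symm
  have hADpos : 0 < Nat.card ↥(A ⊓ D) := Nat.card_pos
  -- the subgroup `B`
  have hADel : Cfsg.IsElementaryAbelian 2 (A ⊓ D) := elab_of_le hA inf_le_left
  obtain ⟨B, hBdef⟩ : ∃ B : Subgroup L, B = (A ⊓ D) ⊔ V := ⟨_, rfl⟩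
  rw [← hBdef] at hBK
  have hBel : Cfsg.IsElementaryAbelian 2 B := by
    rw [hBdef]
    exact elemAb_sup hADel hVel (fun b hb w hw => ((hV w).mp hw).2.1 b hb.2)
  have hBS : B ≤ S := by
    rw [hBdef]
    exact sup_le (inf_le_left.trans hAS) (hVD.trans hDS)
  have hADB : A ⊓ D ≤ B := by
    rw [hBdef]
    exact le_sup_left
  have hVB : V ≤ B := by
    rw [hBdef]
    exact le_sup_right
  have hBcard : Nat.card B = Nat.card A := by
    apply le_antisymm (hAmax B hBS hBel)
    -- some element of `V` is not in `A`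
    have hVA : ¬ V ≤ A := by
      intro hc
      apply hAD
      intro x hx
      exact hCV x (fun v hv => elab_comm hA hx (hc hv))
    obtain ⟨v, hvV, hvA⟩ := SetLike.not_le_iff_exists.mp hVA
    have h1 := relIndex_mul_card_inf (A ⊓ D) B
    rw [inf_of_le_left hADB] at h1
    have h2 : (A ⊓ D).relIndex B ≠ 1 := by
      intro hc
      rw [Subgroup.relIndex_eq_one] at hc
      exact hvA (hc (hVB hvV)).1
    have h3 : (A ⊓ D).relIndex B ≠ 0 := relIndex_ne_zero_fin _ _
    have h4 : 2 ≤ (A ⊓ D).relIndex B := by omega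
    calc Nat.card A = 2 * Nat.card ↥(A ⊓ D) := hAcard
      _ ≤ (A ⊓ D).relIndex B * Nat.card ↥(A ⊓ D) := Nat.mul_le_mul_right _ h4
      _ = Nat.card B := h1
  -- the subgroup `Y`
  obtain ⟨Y, hYdef⟩ : ∃ Y : Subgroup L, Y = sInf {B' : Subgroup L | B' ≤ K ∧
      Cfsg.IsElementaryAbelian 2 B' ∧ Nat.card B' = Nat.card A} := ⟨_, rfl⟩
  have hYB : Y ≤ B := by
    rw [hYdef]
    exact sInf_le ⟨hBK, hBel, hBcard⟩
  have hYel : Cfsg.IsElementaryAbelian 2 Y := elab_of_le hBel hYB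
  have hYK : Y ≤ K := hYB.trans hBK
  have hKS : K ≤ S := hKD.trans hDS
  have hVY : V ≤ Y := by
    rw [hYdef]
    apply le_sInf
    rintro B' ⟨hB'K, hB'el, hB'card⟩
    have h1 : Cfsg.IsElementaryAbelian 2 (B' ⊔ V) :=
      elemAb_sup hB'el hVel (fun b hb w hw => ((hV w).mp hw).2.1 b (hKD (hB'K hb)))
    have h2 : Nat.card ↥(B' ⊔ V) ≤ Nat.card B' := by
      rw [hB'card]
      exact hAmax _ (sup_le (hB'K.trans hKS) (hVD.trans hDS)) h1
    have h3 : B' = B' ⊔ V := Subgroup.eq_of_le_of_card_ge le_sup_left h2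
    rw [h3]
    exact le_sup_right
  have hV'Y : V' ≤ Y := by
    rw [hYdef]
    apply le_sInf
    rintro B' ⟨hB'K, hB'el, hB'card⟩
    have h1 : Cfsg.IsElementaryAbelian 2 (B' ⊔ V') :=
      elemAb_sup hB'el hV'el (fun b hb w hw => ((hV' w).mp hw).2.1 b (hKD' (hB'K hb)))
    have h2 : Nat.card ↥(B' ⊔ V') ≤ Nat.card B' := by
      rw [hB'card]
      exact hAmax _ (sup_le (hB'K.trans hKS) (hV'D'.trans hD'S)) h1
    have h3 : B' = B' ⊔ V' := Subgroup.eq_of_le_of_card_ge le_sup_left h2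
    rw [h3]
    exact le_sup_right
  have hYn : ∀ l : L, ∀ y ∈ Y, l * y * l⁻¹ ∈ Y := by
    intro l y hy
    rw [hYdef] at hy ⊢
    rw [Subgroup.mem_sInf] at hy ⊢
    rintro B' ⟨hB'K, hB'el, hB'card⟩
    have h1 : B'.map (MulAut.conj l⁻¹).toMonoidHom ∈ {B' : Subgroup L | B' ≤ K ∧
        Cfsg.IsElementaryAbelian 2 B' ∧ Nat.card B' = Nat.card A} := by
      refine ⟨?_, elab_map_conj hB'el l⁻¹, ?_⟩
      · rintro _ ⟨x, hx, rfl⟩
        exact hKn.conj_mem x (hB'K hx) l⁻¹
      · rw [← hB'card]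
        exact Subgroup.card_map_of_injective (MulAut.conj l⁻¹).injective
    obtain ⟨x, hx, hxy⟩ := hy _ h1
    have h2 : l⁻¹ * x * l⁻¹⁻¹ = y := hxy
    rw [← h2]
    have e : l * (l⁻¹ * x * l⁻¹⁻¹) * l⁻¹ = x := by group
    rw [e]
    exact hx
  -- the involutions `a`, `b` and `ρ = a * b`
  obtain ⟨a, haA, haD⟩ := SetLike.not_le_iff_exists.mp hAD
  have ha2 : a * a = 1 := elab_sq hA haA
  have haS : a ∈ S := hAS haA
  have hainv : a⁻¹ = a := inv_eq_of_mul_eq_one_right ha2
  obtain ⟨b, hb⟩ : ∃ b : L, b = g * a * g⁻¹ := ⟨_, rfl⟩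
  have hb2 : b * b = 1 := by
    rw [hb]
    calc g * a * g⁻¹ * (g * a * g⁻¹) = g * (a * a) * g⁻¹ := by group
      _ = 1 := by rw [ha2]; group
  have hbinv : b⁻¹ = b := inv_eq_of_mul_eq_one_right hb2
  have hbD : b ∉ D := by
    intro hc
    apply haD
    have := hDn.conj_mem b hc g⁻¹
    rw [hb, inv_inv] at this
    have e : g⁻¹ * (g * a * g⁻¹) * g = a := by group
    rwa [e] at this
  have hDSg : D ≤ S.map (MulAut.conj g).toMonoidHom := by
    intro d hd
    refine ⟨g⁻¹ * d * g, hDS ?_, ?_⟩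
    · have := hDn.conj_mem d hd g⁻¹
      rwa [inv_inv] at this
    · show g * (g⁻¹ * d * g) * g⁻¹ = d
      group
  -- an element of `S ∩ S^g` lies in `D`
  have hkey : ∀ z : L, z ∈ S → z ∈ S.map (MulAut.conj g).toMonoidHom → z ∈ D := by
    intro z hzS hzSg
    by_contra hzD
    apply hg
    have h1 := Subgroup.relIndex_mul_relIndex D (S ⊓ S.map (MulAut.conj g).toMonoidHom) S
      (le_inf hDS hDSg) inf_le_left
    rw [hSD] at h1
    have h2 : D.relIndex (S ⊓ S.map (MulAut.conj g).toMonoidHom) ≠ 1 := by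
      intro hc
      rw [Subgroup.relIndex_eq_one] at hc
      exact hzD (hc ⟨hzS, hzSg⟩)
    have h3 : D.relIndex (S ⊓ S.map (MulAut.conj g).toMonoidHom) ∣ 2 := ⟨_, h1.symm⟩
    have h4 : D.relIndex (S ⊓ S.map (MulAut.conj g).toMonoidHom) = 2 := by
      rcases (Nat.dvd_prime Nat.prime_two).mp h3 with h5 | h5
      · exact absurd h5 h2
      · exact h5
    rw [h4] at h1
    have h5 : (S ⊓ S.map (MulAut.conj g).toMonoidHom).relIndex S = 1 := by omega
    rw [Subgroup.relIndex_eq_one] at h5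
    have h6 : S ≤ S.map (MulAut.conj g).toMonoidHom := fun s hs => (h5 hs).2
    have h7 : Nat.card ↥(S.map (MulAut.conj g).toMonoidHom) = Nat.card S :=
      Subgroup.card_map_of_injective (MulAut.conj g).injective
    exact (Subgroup.eq_of_le_of_card_ge h6 (le_of_eq h7)).symm
  have hbSg : b ∈ S.map (MulAut.conj g).toMonoidHom := ⟨a, haS, by rw [hb]; rfl⟩
  have hbS : b ∉ S := fun hc => hbD (hkey b hc hbSg)
  obtain ⟨ρ, hρ⟩ : ∃ ρ : L, ρ = a * b := ⟨_, rfl⟩
  have hρS : ρ ∉ S := by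
    intro hc
    apply hbS
    have e : b = a⁻¹ * ρ := by rw [hρ]; group
    rw [e]
    exact S.mul_mem (S.inv_mem haS) hc
  have hρD : ρ ∉ D := fun hc => hρS (hDS hc)
  have hρ2 : ρ * ρ ∉ D := by
    intro hc
    -- then `b` normalizes `S`
    have hbab : b * a * b⁻¹ ∈ S := by
      have e : b * a * b⁻¹ = a * (ρ * ρ) := by
        rw [hbinv, hρ]
        calc b * a * b = (a * a) * b * a * b := by rw [ha2, one_mul]
          _ = a * (a * b * (a * b)) := by group
      rw [e]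
      exact S.mul_mem haS (hDS hc)
    have hidx : (D.subgroupOf S).index = 2 := hSD
    have hbconj : ∀ s ∈ S, b * s * b⁻¹ ∈ S := by
      intro s hs
      by_cases hsD : s ∈ D
      · exact hDS (hDn.conj_mem s hsD b)
      · have h1 : (⟨a, haS⟩ : S) * ⟨s, hs⟩ ∈ D.subgroupOf S := by
          rw [Subgroup.mul_mem_iff_of_index_two hidx]
          constructor
          · intro h2
            exact absurd (Subgroup.mem_subgroupOf.mp h2) haD
          · intro h2
            exact absurd (Subgroup.mem_subgroupOf.mp h2) hsD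
        have h2 : a * s ∈ D := Subgroup.mem_subgroupOf.mp h1
        have e : b * s * b⁻¹ = (b * a * b⁻¹) * (b * (a * s) * b⁻¹) := by
          calc b * s * b⁻¹ = b * ((a * a) * s) * b⁻¹ := by rw [ha2, one_mul]
            _ = (b * a * b⁻¹) * (b * (a * s) * b⁻¹) := by group
        rw [e]
        exact S.mul_mem hbab (hDS (hDn.conj_mem _ h2 b))
    have hbN : b ∈ Subgroup.normalizer (S : Set L) := mem_normalizer_of_conj_le S b hbconj
    have htop : Subgroup.normalizer (S : Set L) = ⊤ :=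
      eq_top_of_index_three S _ hLS Subgroup.le_normalizer b hbN hbS
    apply hg
    have hgN : g ∈ Subgroup.normalizer (S : Set L) := by rw [htop]; exact Subgroup.mem_top g
    apply le_antisymm
    · rintro _ ⟨s, hs, rfl⟩
      exact (Subgroup.mem_normalizer_iff.mp hgN s).mp hs
    · intro s hs
      refine ⟨g⁻¹ * s * g, ?_, ?_⟩
      · refine (Subgroup.mem_normalizer_iff.mp hgN (g⁻¹ * s * g)).mpr ?_
        have e : g * (g⁻¹ * s * g) * g⁻¹ = s := by group
        rw [e]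
        exact hs
      · show g * (g⁻¹ * s * g) * g⁻¹ = s
        group
  -- the centralizers in `Y`
  obtain ⟨Ya, hYa⟩ : ∃ Ya : Subgroup L, Ya = Y ⊓ (A ⊓ D) := ⟨_, rfl⟩
  have hYaY : Ya ≤ Y := by rw [hYa]; exact inf_le_left
  have hYa_comm : ∀ y ∈ Ya, a * y = y * a := by
    intro y hy
    rw [hYa] at hy
    exact elab_comm hA haA hy.2.1
  have hYpos : 0 < Nat.card Y := Nat.card_pos
  have hYa_card : Nat.card Y ≤ 2 * Nat.card Ya := by
    have h1 := card_mul_card_le_card_sup_mul_card_inf Y (A ⊓ D)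
    have h2 : Nat.card ↥(Y ⊔ (A ⊓ D)) ≤ 2 * Nat.card ↥(A ⊓ D) := by
      rw [← hAcard, ← hBcard]
      exact Subgroup.card_le_of_le (sup_le hYB hADB)
    rw [← hYa] at h1
    have h3 : Nat.card Y * Nat.card ↥(A ⊓ D) ≤ (2 * Nat.card Ya) * Nat.card ↥(A ⊓ D) := by
      calc Nat.card Y * Nat.card ↥(A ⊓ D) ≤ Nat.card ↥(Y ⊔ (A ⊓ D)) * Nat.card Ya := h1
        _ ≤ (2 * Nat.card ↥(A ⊓ D)) * Nat.card Ya := Nat.mul_le_mul_right _ h2
        _ = (2 * Nat.card Ya) * Nat.card ↥(A ⊓ D) := by ring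
    exact Nat.le_of_mul_le_mul_right h3 hADpos
  obtain ⟨Yb, hYb⟩ : ∃ Yb : Subgroup L, Yb = Ya.map (MulAut.conj g).toMonoidHom := ⟨_, rfl⟩
  have hYbY : Yb ≤ Y := by
    rw [hYb]
    rintro _ ⟨y, hy, rfl⟩
    exact hYn g y (hYaY hy)
  have hYb_card : Nat.card Yb = Nat.card Ya := by
    rw [hYb]
    exact Subgroup.card_map_of_injective (MulAut.conj g).injective
  have hYb_comm : ∀ y ∈ Yb, b * y = y * b := by
    intro y hy
    rw [hYb] at hy
    obtain ⟨y0, hy0, rfl⟩ := hy
    have h1 := hYa_comm y0 hy0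
    show b * (g * y0 * g⁻¹) = g * y0 * g⁻¹ * b
    rw [hb]
    calc g * a * g⁻¹ * (g * y0 * g⁻¹) = g * (a * y0) * g⁻¹ := by group
      _ = g * (y0 * a) * g⁻¹ := by rw [h1]
      _ = g * y0 * g⁻¹ * (g * a * g⁻¹) := by group
  obtain ⟨Yr, hYr⟩ : ∃ Yr : Subgroup L, Yr = Ya ⊓ Yb := ⟨_, rfl⟩
  have hYrY : Yr ≤ Y := by rw [hYr]; exact inf_le_left.trans hYaY
  have hYr_comm : ∀ y ∈ Yr, ρ * y = y * ρ := by
    intro y hy
    rw [hYr] at hy
    have h1 := hYa_comm y hy.1
    have h2 := hYb_comm y hy.2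
    rw [hρ]
    calc a * b * y = a * (b * y) := by group
      _ = a * (y * b) := by rw [h2]
      _ = (a * y) * b := by group
      _ = (y * a) * b := by rw [h1]
      _ = y * (a * b) := by group
  have hYr_card : Nat.card Y ≤ 4 * Nat.card Yr := by
    have h1 := card_mul_card_le_card_sup_mul_card_inf Ya Yb
    rw [← hYr, hYb_card] at h1
    have h2 : Nat.card ↥(Ya ⊔ Yb) ≤ Nat.card Y := Subgroup.card_le_of_le (sup_le hYaY hYbY)
    have h3 : Nat.card Ya * Nat.card Ya ≤ Nat.card Y * Nat.card Yr :=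
      h1.trans (Nat.mul_le_mul_right _ h2)
    have h4 : Nat.card Y * Nat.card Y ≤ Nat.card Y * (4 * Nat.card Yr) := by
      calc Nat.card Y * Nat.card Y ≤ (2 * Nat.card Ya) * (2 * Nat.card Ya) :=
            Nat.mul_le_mul hYa_card hYa_card
        _ = 4 * (Nat.card Ya * Nat.card Ya) := by ring
        _ ≤ 4 * (Nat.card Y * Nat.card Yr) := Nat.mul_le_mul_left _ h3
        _ = Nat.card Y * (4 * Nat.card Yr) := by ring
    exact Nat.le_of_mul_le_mul_left h4 hYpos
  -- `ρ` does not centralize a subgroup of index `≤ 2` of `V`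
  obtain ⟨Vr, hVr⟩ : ∃ Vr : Subgroup L, Vr = V ⊓ Yr := ⟨_, rfl⟩
  have hVrV : Vr ≤ V := by rw [hVr]; exact inf_le_left
  have hVr_comm : ∀ y ∈ Vr, ρ * y = y * ρ := by
    intro y hy
    rw [hVr] at hy
    exact hYr_comm y hy.2
  have hVr_pos : 0 < Nat.card Vr := Nat.card_pos
  have hV4 : 4 * Nat.card Vr ≤ Nat.card V := by
    by_contra hlt
    push Not at hlt
    by_cases hVVr : V ≤ Vr
    · exact hρD (hCV ρ (fun v hv => hVr_comm v (hVVr hv)))
    · obtain ⟨v, hvV, hvVr⟩ := SetLike.not_le_iff_exists.mp hVVr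
      have hv2 : v * v = 1 := elab_sq hVel hvV
      obtain ⟨W, hW⟩ : ∃ W : Subgroup L, W = Vr ⊔ Subgroup.zpowers v := ⟨_, rfl⟩
      have hWV : W ≤ V := by
        rw [hW]
        exact sup_le hVrV (by rw [Subgroup.zpowers_le]; exact hvV)
      have hVrW : Vr ≤ W := by rw [hW]; exact le_sup_left
      have hvW : v ∈ W := by
        rw [hW]
        exact (le_sup_right : Subgroup.zpowers v ≤ _) (Subgroup.mem_zpowers v)
      -- `V = W`
      have hVW : V ≤ W := by
        have h1 := Subgroup.relIndex_mul_relIndex Vr W V hVrW hWV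
        have h2 := relIndex_mul_card_inf Vr V
        rw [inf_of_le_left hVrV] at h2
        have h3 : Vr.relIndex W ≠ 1 := by
          intro hc
          rw [Subgroup.relIndex_eq_one] at hc
          exact hvVr (hc hvW)
        have h4 : Vr.relIndex W ≠ 0 := relIndex_ne_zero_fin _ _
        have h5 : W.relIndex V ≠ 0 := relIndex_ne_zero_fin _ _
        have h6 : Vr.relIndex V < 4 := by
          by_contra hc
          push Not at hc
          have : 4 * Nat.card Vr ≤ Vr.relIndex V * Nat.card Vr := Nat.mul_le_mul_right _ hc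
          omega
        have h7 : W.relIndex V = 1 := by
          by_contra hc
          have h8 : 2 ≤ W.relIndex V := by omega
          have h9 : 2 ≤ Vr.relIndex W := by omega
          have : 2 * 2 ≤ Vr.relIndex W * W.relIndex V := Nat.mul_le_mul h9 h8
          omega
        exact Subgroup.relIndex_eq_one.mp h7
      -- every element of `V` is `c` or `c * v` with `c ∈ Vr`
      have hdec : ∀ x ∈ V, ∃ c ∈ Vr, x = c ∨ x = c * v := by
        intro x hx
        have hxW := hVW hx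
        rw [hW] at hxW
        obtain ⟨c, hc, z, hz, rfl⟩ := exists_mul_of_mem_sup_comm
          (fun h hh k hk => elab_comm hVel (hVrV hh)
            ((Subgroup.zpowers_le.mpr hvV) hk)) hxW
        refine ⟨c, hc, ?_⟩
        obtain ⟨k, rfl⟩ := Subgroup.mem_zpowers_iff.mp hz
        rcases Int.emod_two_eq_zero_or_one k with hk | hk
        · left
          have e : v ^ k = 1 := by
            have h1 : k = 2 * (k / 2) := by omega
            rw [h1, zpow_mul, zpow_two, hv2, one_zpow]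
          rw [e, mul_one]
        · right
          have e : v ^ k = v := by
            have h1 : k = 2 * (k / 2) + 1 := by omega
            rw [h1, zpow_add, zpow_mul, zpow_two, hv2, one_zpow, one_mul, zpow_one]
          rw [e]
      -- `ρ * ρ` centralizes `V`
      apply hρ2
      apply hCV
      have hρv : ρ * ρ * v = v * (ρ * ρ) := by
        obtain ⟨c, hc, h1 | h1⟩ := hdec (ρ * v * ρ⁻¹) (hVn ρ v hvV)
        · exfalso
          apply hvVr
          have h2 := hVr_comm c hc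
          have e : v = ρ⁻¹ * (ρ * v * ρ⁻¹) * ρ := by group
          rw [e, h1]
          have e2 : ρ⁻¹ * c * ρ = ρ⁻¹ * (c * ρ) := by group
          rw [e2, ← h2]
          have e3 : ρ⁻¹ * (ρ * c) = c := by group
          rw [e3]
          exact hc
        · have h2 := hVr_comm c hc
          have hc2 : c * c = 1 := elab_sq hVel (hVrV hc)
          have h3 : ρ * v = c * v * ρ := by
            rw [← h1]
            group
          calc ρ * ρ * v = ρ * (ρ * v) := by group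
            _ = ρ * (c * v * ρ) := by rw [h3]
            _ = (ρ * c) * v * ρ := by group
            _ = (c * ρ) * v * ρ := by rw [h2]
            _ = c * (ρ * v) * ρ := by group
            _ = c * (c * v * ρ) * ρ := by rw [h3]
            _ = (c * c) * v * (ρ * ρ) := by group
            _ = v * (ρ * ρ) := by rw [hc2, one_mul]
      intro x hx
      obtain ⟨c, hc, h1 | h1⟩ := hdec x hx
      · rw [h1]
        have h2 := hVr_comm c hc
        calc ρ * ρ * c = ρ * (ρ * c) := by group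
          _ = ρ * (c * ρ) := by rw [h2]
          _ = (ρ * c) * ρ := by group
          _ = (c * ρ) * ρ := by rw [h2]
          _ = c * (ρ * ρ) := by group
      · rw [h1]
        have h2 := hVr_comm c hc
        calc ρ * ρ * (c * v) = ρ * (ρ * c) * v := by group
          _ = ρ * (c * ρ) * v := by rw [h2]
          _ = (ρ * c) * ρ * v := by group
          _ = (c * ρ) * ρ * v := by rw [h2]
          _ = c * (ρ * ρ * v) := by group
          _ = c * (v * (ρ * ρ)) := by rw [hρv]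
          _ = c * v * (ρ * ρ) := by group
  -- `Y = V * Yr`
  have hYVYr : Y ≤ V ⊔ Yr := by
    have h1 := card_mul_card_le_card_sup_mul_card_inf V Yr
    rw [← hVr] at h1
    have h2 : 4 * Nat.card Yr * Nat.card Vr ≤ Nat.card ↥(V ⊔ Yr) * Nat.card Vr := by
      calc 4 * Nat.card Yr * Nat.card Vr = (4 * Nat.card Vr) * Nat.card Yr := by ring
        _ ≤ Nat.card V * Nat.card Yr := Nat.mul_le_mul_right _ hV4
        _ ≤ Nat.card ↥(V ⊔ Yr) * Nat.card Vr := h1
    have h3 : 4 * Nat.card Yr ≤ Nat.card ↥(V ⊔ Yr) := Nat.le_of_mul_le_mul_right h2 hVr_pos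
    have h4 : V ⊔ Yr = Y :=
      Subgroup.eq_of_le_of_card_ge (sup_le hVY hYrY) (hYr_card.trans h3)
    rw [h4]
  have hρY : ∀ y ∈ Y, ρ * y * ρ⁻¹ * y⁻¹ ∈ V := by
    intro y hy
    obtain ⟨v, hv, c, hc, rfl⟩ := exists_mul_of_mem_sup_comm
      (fun h hh k hk => elab_comm hYel (hVY hh) (hYrY hk)) (hYVYr hy)
    have h1 := hYr_comm c hc
    have e : ρ * (v * c) * ρ⁻¹ * (v * c)⁻¹ = (ρ * v * ρ⁻¹) * v⁻¹ := by
      calc ρ * (v * c) * ρ⁻¹ * (v * c)⁻¹ = ρ * v * (c * ρ⁻¹) * c⁻¹ * v⁻¹ := by group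
        _ = ρ * v * (ρ⁻¹ * c) * c⁻¹ * v⁻¹ := by
            have e2 : c * ρ⁻¹ = ρ⁻¹ * c := by
              calc c * ρ⁻¹ = ρ⁻¹ * (ρ * c) * ρ⁻¹ := by group
                _ = ρ⁻¹ * (c * ρ) * ρ⁻¹ := by rw [h1]
                _ = ρ⁻¹ * c := by group
            rw [e2]
        _ = (ρ * v * ρ⁻¹) * v⁻¹ := by group
    rw [e]
    exact V.mul_mem (hVn ρ v hv) (V.inv_mem hv)
  -- `N = V * V'` is normal
  obtain ⟨N, hN⟩ : ∃ N : Subgroup L, N = V ⊔ V' := ⟨_, rfl⟩
  have hNY : N ≤ Y := by rw [hN]; exact sup_le hVY hV'Y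
  have hVN : V ≤ N := by rw [hN]; exact le_sup_left
  have hV'N : V' ≤ N := by rw [hN]; exact le_sup_right
  have hNdec : ∀ n ∈ N, ∃ v ∈ V, ∃ v' ∈ V', n = v * v' := by
    intro n hn
    rw [hN] at hn
    exact exists_mul_of_mem_sup_comm
      (fun h hh k hk => elab_comm hYel (hVY hh) (hV'Y hk)) hn
  have hρN : ρ ∈ Subgroup.normalizer (N : Set L) := by
    apply mem_normalizer_of_conj_le
    intro n hn
    have e : ρ * n * ρ⁻¹ = (ρ * n * ρ⁻¹ * n⁻¹) * n := by group
    rw [e]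
    exact N.mul_mem (hVN (hρY n (hNY hn))) hn
  have hSN : S ≤ Subgroup.normalizer (N : Set L) := by
    intro s hs
    apply mem_normalizer_of_conj_le
    intro n hn
    obtain ⟨v, hv, v', hv', rfl⟩ := hNdec n hn
    have e : s * (v * v') * s⁻¹ = (s * v * s⁻¹) * (s * v' * s⁻¹) := by group
    rw [e]
    exact N.mul_mem (hVN (hVn s v hv)) (hV'N (hV'n s hs v' hv'))
  have hNtop : Subgroup.normalizer (N : Set L) = ⊤ :=
    eq_top_of_index_three S _ hLS hSN ρ hρN hρS
  have hNn : N.Normal := Subgroup.normalizer_eq_top_iff.mp hNtop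
  -- the centralizer of `N`
  have hZn : (Subgroup.centralizer (N : Set L)).Normal := Subgroup.normal_centralizer
  have hDD' : D ⊓ D' ≤ Subgroup.centralizer (N : Set L) := by
    rintro d ⟨hd, hd'⟩
    rw [Subgroup.mem_centralizer_iff]
    intro n hn
    obtain ⟨v, hv, v', hv', rfl⟩ := hNdec n hn
    have h1 := ((hV v).mp hv).2.1 d hd
    have h2 := ((hV' v').mp hv').2.1 d hd'
    calc v * v' * d = v * (v' * d) := by group
      _ = v * (d * v') := by rw [h2]
      _ = (v * d) * v' := by group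
      _ = (d * v) * v' := by rw [h1]
      _ = d * (v * v') := by group
  have hDZ := hgen _ hZn hDD'
  intro v' hv'
  rw [hV]
  refine ⟨hKD (hYK (hV'Y hv')), ?_, ((hV' v').mp hv').2.2⟩
  intro d hd
  have h1 := Subgroup.mem_centralizer_iff.mp (hDZ hd) v' (hV'N hv')
  exact h1.symm

end Cfsg.Agent.Lib.Helper45.S3Amal
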