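-- helper45: S2858, Lemma J in relative form (for a finite subgroup `L` of an arbitrary group).
import Cfsg.Agent.Lib.Helper45.S3Amal.LemJ
import Cfsg.Agent.Lib.Helper45.S3Amal.NDefs

set_option autoImplicit false

namespace Cfsg.Agent.Lib.Helper45.S3Amal

open Cfsg.Agent.Lib.Helper71.Sym Cfsg.Agent.Lib.Helper51

variable {G : Type*} [Group G]

theorem relIndex_eq_of_card {H K : Subgroup G} [Finite ↥K] (hHK : H ≤ K) (m : ℕ)
    (h : Nat.card ↥K = m * Nat.card ↥H) : H.relIndex K = m := by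
  have h1 := relIndex_mul_card_inf H K
  rw [inf_of_le_left hHK] at h1
  have hpos : 0 < Nat.card ↥H := by
    have : Finite ↥H := Finite.of_injective _ (Subgroup.inclusion_injective hHK)
    exact Nat.card_pos
  rw [h] at h1
  exact Nat.eq_of_mul_eq_mul_right hpos h1

theorem lemJ_rel (L D S : Subgroup G) [Finite ↥L]
    (hDS : D ≤ S) (hSL : S ≤ L) (hDn : Nz L D)
    (hSD : Nat.card ↥S = 2 * Nat.card ↥D) (hLS : Nat.card ↥L = 3 * Nat.card ↥S)
    (g : G) (hgL : g ∈ L) (hg : cj g S ≠ S)
    (V : Subgroup G) (hV : ∀ v, v ∈ V ↔ v ∈ D ∧ (∀ d ∈ D, d * v = v * d) ∧ v * v = 1)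
    (hCV : ∀ x ∈ L, (∀ v ∈ V, x * v = v * x) → x ∈ D)
    (D' : Subgroup G) (hD'S : D' ≤ S) (hD'n : Nz S D')
    (V' : Subgroup G) (hV' : ∀ v, v ∈ V' ↔ v ∈ D' ∧ (∀ d ∈ D', d * v = v * d) ∧ v * v = 1)
    (hgen : ∀ N : Subgroup G, N ≤ L → Nz L N → D ⊓ D' ≤ N → D ≤ N)
    (K : Subgroup G) (hKn : Nz L K) (hKD : K ≤ D) (hKD' : K ≤ D')
    (A : Subgroup G) (hAS : A ≤ S) (hA : Cfsg.IsElementaryAbelian 2 A)
    (hAmax : ∀ B : Subgroup G, B ≤ S → Cfsg.IsElementaryAbelian 2 B → Nat.card ↥B ≤ Nat.card ↥A)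
    (hAD : ¬ A ≤ D) (hBK : (A ⊓ D) ⊔ V ≤ K) : V' ≤ V := by
  have hDL : D ≤ L := hDS.trans hSL
  have hD'L : D' ≤ L := hD'S.trans hSL
  have hAL : A ≤ L := hAS.trans hSL
  have hfS : Finite ↥S := Finite.of_injective _ (Subgroup.inclusion_injective hSL)
  have hnD : (D.subgroupOf L).Normal := by
    refine ⟨fun n hn x => ?_⟩
    rw [Subgroup.mem_subgroupOf] at hn ⊢
    exact hDn x.1 x.2 n.1 hn
  have hnK : (K.subgroupOf L).Normal := by
    refine ⟨fun n hn x => ?_⟩
    rw [Subgroup.mem_subgroupOf] at hn ⊢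
    exact hKn x.1 x.2 n.1 hn
  have key := lemJ (D.subgroupOf L) (S.subgroupOf L)
    (fun x hx => by rw [Subgroup.mem_subgroupOf] at hx ⊢; exact hDS hx)
    (by rw [Subgroup.relIndex_subgroupOf hSL]; exact relIndex_eq_of_card hDS 2 hSD)
    (by
      show S.relIndex L = 3
      exact relIndex_eq_of_card hSL 3 hLS)
    ⟨g, hgL⟩
    (by
      intro heq
      apply hg
      apply le_antisymm
      · intro a ha
        rw [mem_cj] at ha
        have h1 : (⟨g, hgL⟩ : ↥L) * ⟨g⁻¹ * a * g, hSL ha⟩ * (⟨g, hgL⟩ : ↥L)⁻¹ ∈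
            (S.subgroupOf L).map (MulAut.conj (⟨g, hgL⟩ : ↥L)).toMonoidHom :=
          ⟨⟨g⁻¹ * a * g, hSL ha⟩, Subgroup.mem_subgroupOf.mpr ha, rfl⟩
        rw [heq, Subgroup.mem_subgroupOf] at h1
        have e : g * (g⁻¹ * a * g) * g⁻¹ = a := by group
        simpa [e] using h1
      · intro a ha
        have h1 : (⟨a, hSL ha⟩ : ↥L) ∈ S.subgroupOf L := by
          rw [Subgroup.mem_subgroupOf]; exact ha
        rw [← heq] at h1
        obtain ⟨s, hs0, hsa⟩ := h1
        have hs : s.1 ∈ S := Subgroup.mem_subgroupOf.mp hs0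
        have h2 : g * s.1 * g⁻¹ = a := by
          have := congrArg Subtype.val hsa
          simpa [MulAut.conj_apply] using this
        rw [mem_cj, ← h2]
        have e : g⁻¹ * (g * s.1 * g⁻¹) * g = s.1 := by group
        rw [e]; exact hs)
    (V.subgroupOf L)
    (by
      intro v
      rw [Subgroup.mem_subgroupOf, Subgroup.mem_subgroupOf, hV]
      constructor
      · rintro ⟨h1, h2, h3⟩
        refine ⟨h1, fun d hd => ?_, Subtype.ext h3⟩
        rw [Subgroup.mem_subgroupOf] at hd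
        exact Subtype.ext (h2 d.1 hd)
      · rintro ⟨h1, h2, h3⟩
        refine ⟨h1, fun d hd => ?_, congrArg Subtype.val h3⟩
        have := h2 ⟨d, hDL hd⟩ (by rw [Subgroup.mem_subgroupOf]; exact hd)
        exact congrArg Subtype.val this)
    (by
      intro x hx
      rw [Subgroup.mem_subgroupOf]
      apply hCV x.1 x.2
      intro v hv
      have hvL : v ∈ L := hDL ((hV v).mp hv).1
      have := hx ⟨v, hvL⟩ (by rw [Subgroup.mem_subgroupOf]; exact hv)
      exact congrArg Subtype.val this)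
    (D'.subgroupOf L)
    (fun x hx => by rw [Subgroup.mem_subgroupOf] at hx ⊢; exact hD'S hx)
    (by
      intro s hs d hd
      rw [Subgroup.mem_subgroupOf] at hs hd ⊢
      exact hD'n s.1 hs d.1 hd)
    (V'.subgroupOf L)
    (by
      intro v
      rw [Subgroup.mem_subgroupOf, Subgroup.mem_subgroupOf, hV']
      constructor
      · rintro ⟨h1, h2, h3⟩
        refine ⟨h1, fun d hd => ?_, Subtype.ext h3⟩
        rw [Subgroup.mem_subgroupOf] at hd
        exact Subtype.ext (h2 d.1 hd)
      · rintro ⟨h1, h2, h3⟩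
        refine ⟨h1, fun d hd => ?_, congrArg Subtype.val h3⟩
        have := h2 ⟨d, hD'L hd⟩ (by rw [Subgroup.mem_subgroupOf]; exact hd)
        exact congrArg Subtype.val this)
    (by
      intro N hN hle x hx
      rw [Subgroup.mem_subgroupOf] at hx
      have h1 : D ≤ N.map L.subtype := by
        apply hgen
        · rintro _ ⟨y, _, rfl⟩
          exact y.2
        · rintro l hl _ ⟨y, hy, rfl⟩
          exact ⟨⟨l, hl⟩ * y * ⟨l, hl⟩⁻¹, hN.conj_mem y hy ⟨l, hl⟩, rfl⟩
        · intro y hy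
          have hyL : y ∈ L := hDL hy.1
          refine ⟨⟨y, hyL⟩, hle ?_, rfl⟩
          constructor
          · show (⟨y, hyL⟩ : ↥L) ∈ D.subgroupOf L
            rw [Subgroup.mem_subgroupOf]; exact hy.1
          · show (⟨y, hyL⟩ : ↥L) ∈ D'.subgroupOf L
            rw [Subgroup.mem_subgroupOf]; exact hy.2
      obtain ⟨y, hy, hyx⟩ := h1 hx
      have : y = x := Subtype.ext hyx
      rw [← this]; exact hy)
    (K.subgroupOf L)
    (fun x hx => by rw [Subgroup.mem_subgroupOf] at hx ⊢; exact hKD hx)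
    (fun x hx => by rw [Subgroup.mem_subgroupOf] at hx ⊢; exact hKD' hx)
    (A.subgroupOf L)
    (fun x hx => by rw [Subgroup.mem_subgroupOf] at hx ⊢; exact hAS hx)
    (by
      apply elab_mk
      · intro x hx y hy
        rw [Subgroup.mem_subgroupOf] at hx hy
        exact Subtype.ext (elab_comm hA hx hy)
      · intro x hx
        rw [Subgroup.mem_subgroupOf] at hx
        exact Subtype.ext (elab_sq hA hx))
    (by
      intro B hB hBel
      have h1 : Nat.card ↥(B.map L.subtype) ≤ Nat.card ↥A := by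
        apply hAmax
        · rintro _ ⟨y, hy, rfl⟩
          have := hB hy
          rw [Subgroup.mem_subgroupOf] at this
          exact this
        · apply elab_mk
          · rintro _ ⟨x, hx, rfl⟩ _ ⟨y, hy, rfl⟩
            have := elab_comm hBel hx hy
            exact congrArg Subtype.val this
          · rintro _ ⟨x, hx, rfl⟩
            have := elab_sq hBel hx
            exact congrArg Subtype.val this
      have h2 : Nat.card ↥(B.map L.subtype) = Nat.card ↥B :=
        Subgroup.card_map_of_injective L.subtype_injective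
      have h3 : Nat.card ↥(A.subgroupOf L) = Nat.card ↥A :=
        Nat.card_congr (Subgroup.subgroupOfEquivOfLe hAL).toEquiv
      rw [h3, ← h2]; exact h1)
    (by
      intro hle
      apply hAD
      intro a ha
      have := hle (show (⟨a, hAL ha⟩ : ↥L) ∈ A.subgroupOf L by
        rw [Subgroup.mem_subgroupOf]; exact ha)
      rw [Subgroup.mem_subgroupOf] at this
      exact this)
    (by
      apply sup_le
      · intro x hx
        have h1 : x.1 ∈ A := Subgroup.mem_subgroupOf.mp hx.1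
        have h2 : x.1 ∈ D := Subgroup.mem_subgroupOf.mp hx.2
        exact Subgroup.mem_subgroupOf.mpr (hBK (Subgroup.mem_sup_left ⟨h1, h2⟩))
      · intro x hx
        rw [Subgroup.mem_subgroupOf] at hx ⊢
        exact hBK (Subgroup.mem_sup_right hx))
  intro v hv
  have hvL : v ∈ L := hD'L ((hV' v).mp hv).1
  have := key (show (⟨v, hvL⟩ : ↥L) ∈ V'.subgroupOf L by rw [Subgroup.mem_subgroupOf]; exact hv)
  rw [Subgroup.mem_subgroupOf] at this
  exact this

end Cfsg.Agent.Lib.Helper45.S3Amal
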