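-- helper45: S2858, claim (N): final assembly from the packages of `NDefs`.
import Cfsg.Agent.Lib.Helper45.S3Amal.LemJRel
import Cfsg.Agent.Lib.Helper71.Sym.BWords

set_option autoImplicit false

namespace Cfsg.Agent.Lib.Helper45.S3Amal

open Cfsg.Agent.Lib.Helper71.Sym Cfsg.Agent.Lib.Helper51 Cfsg.Agent.Lib.Helper71.JC
  Cfsg.Agent.Lib.Helper45.KS12

universe u

variable {G : Type*} [Group G]

theorem nz_mono {H H' K : Subgroup G} (h : Nz H K) (hle : H' ≤ H) : Nz H' K :=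
  fun x hx k hk => h x (hle hx) k hk

theorem nz_inf {H K K' : Subgroup G} (h : Nz H K) (h' : Nz H K') : Nz H (K ⊓ K') :=
  fun x hx k hk => ⟨h x hx k hk.1, h' x hx k hk.2⟩

theorem cj_eq_of_nz {H K : Subgroup G} (h : Nz H K) {x : G} (hx : x ∈ H) : cj x K = K := by
  apply le_antisymm
  · intro a ha
    rw [mem_cj] at ha
    have := h x hx _ ha
    simpa [mul_assoc] using this
  · intro a ha
    rw [mem_cj]
    have := h x⁻¹ (H.inv_mem hx) a ha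
    simpa using this

theorem mem_normalizer_of_cj_eq {K : Subgroup G} {x : G} (h : cj x K = K) :
    x ∈ Subgroup.normalizer (K : Set G) := by
  rw [Subgroup.mem_normalizer_iff]
  intro n
  constructor
  · intro hn
    have : x * n * x⁻¹ ∈ cj x K := conj_mem_cj hn
    rwa [h] at this
  · intro hn
    rw [← h, mem_cj] at hn
    simpa [mul_assoc] using hn

theorem nz_of_le_normalizer {H K : Subgroup G} (h : H ≤ Subgroup.normalizer (K : Set G)) :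
    Nz H K := fun x hx k hk => (Subgroup.mem_normalizer_iff.mp (h hx) k).mp hk

theorem le_normalizer_of_nz {H K : Subgroup G} (h : Nz H K) :
    H ≤ Subgroup.normalizer (K : Set G) :=
  fun _ hx => mem_normalizer_of_cj_eq (cj_eq_of_nz h hx)

/-- `T` maximal in `P`: a subgroup containing `T` and an element of `P` outside `T`
contains `P`. -/
theorem le_of_maxT {P T Q : Subgroup G} (z : ZF P T Q) (hTP : T ≤ P) {N : Subgroup G}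
    (hTN : T ≤ N) {a : G} (haP : a ∈ P) (haT : a ∉ T) (haN : a ∈ N) : P ≤ N := by
  rcases z.maxT (N ⊓ P) (le_inf hTN hTP) inf_le_right with h | h
  · have : a ∈ N ⊓ P := ⟨haN, haP⟩
    rw [h] at this
    exact absurd this haT
  · intro x hx
    have : x ∈ N ⊓ P := by rw [h]; exact hx
    exact this.1

theorem card_eq_two_mul_inf {A B C : Subgroup G} [Finite ↥C] (hA : A ≤ C) (hB : B ≤ C)
    (hCA : Nat.card ↥C = 2 * Nat.card ↥A) (hCB : Nat.card ↥C = 2 * Nat.card ↥B) (hne : B ≠ A) :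
    Nat.card ↥B = 2 * Nat.card ↥(A ⊓ B) := by
  have hfA : Finite ↥A := Finite.of_injective _ (Subgroup.inclusion_injective hA)
  have hfB : Finite ↥B := Finite.of_injective _ (Subgroup.inclusion_injective hB)
  have h1 : A.relIndex C = 2 := relIndex_eq_of_card hA 2 hCA
  have h2 : A.relIndex B ≤ 2 := by
    have := Subgroup.relIndex_le_of_le_right (H := A) hB (by rw [h1]; norm_num)
    rwa [h1] at this
  have h3 : A.relIndex B ≠ 1 := by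
    intro hc
    rw [Subgroup.relIndex_eq_one] at hc
    apply hne
    apply Subgroup.eq_of_le_of_card_ge hc
    omega
  have h4 : A.relIndex B ≠ 0 := by
    unfold Subgroup.relIndex
    exact Subgroup.index_ne_zero_of_finite
  have h5 : A.relIndex B = 2 := by omega
  have h6 := relIndex_mul_card_inf A B
  rw [h5] at h6
  exact h6.symm

/-- `Ω₁Z(D)`. -/
def omZ (D : Subgroup G) : Subgroup G where
  carrier := {v | v ∈ D ∧ (∀ d ∈ D, d * v = v * d) ∧ v * v = 1}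
  one_mem' := ⟨D.one_mem, fun d _ => by simp, by simp⟩
  mul_mem' := by
    rintro v w ⟨hv, hvc, hv2⟩ ⟨hw, hwc, hw2⟩
    refine ⟨D.mul_mem hv hw, fun d hd => ?_, ?_⟩
    · calc d * (v * w) = (d * v) * w := by group
        _ = (v * d) * w := by rw [hvc d hd]
        _ = v * (d * w) := by group
        _ = v * (w * d) := by rw [hwc d hd]
        _ = v * w * d := by group
    · calc v * w * (v * w) = v * (w * v) * w := by group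
        _ = v * (v * w) * w := by rw [hvc w hw]
        _ = (v * v) * (w * w) := by group
        _ = 1 := by rw [hv2, hw2, one_mul]
  inv_mem' := by
    rintro v ⟨hv, hvc, hv2⟩
    refine ⟨D.inv_mem hv, fun d hd => ?_, ?_⟩
    · have := hvc d hd
      calc d * v⁻¹ = v⁻¹ * (v * d) * v⁻¹ := by group
        _ = v⁻¹ * (d * v) * v⁻¹ := by rw [this]
        _ = v⁻¹ * d := by group
    · calc v⁻¹ * v⁻¹ = (v * v)⁻¹ := by group
        _ = 1 := by rw [hv2, inv_one]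

theorem mem_omZ {D : Subgroup G} {v : G} :
    v ∈ omZ D ↔ v ∈ D ∧ (∀ d ∈ D, d * v = v * d) ∧ v * v = 1 := Iff.rfl

theorem omZ_le (D : Subgroup G) : omZ D ≤ D := fun _ hv => hv.1

theorem omZ_cj (a : G) (D : Subgroup G) : omZ (cj a D) = cj a (omZ D) := by
  ext v
  rw [mem_cj, mem_omZ, mem_omZ, mem_cj]
  constructor
  · rintro ⟨h1, h2, h3⟩
    refine ⟨h1, fun d hd => ?_, ?_⟩
    · have := h2 (a * d * a⁻¹) (conj_mem_cj hd)
      calc d * (a⁻¹ * v * a) = a⁻¹ * ((a * d * a⁻¹) * v) * a := by group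
        _ = a⁻¹ * (v * (a * d * a⁻¹)) * a := by rw [this]
        _ = a⁻¹ * v * a * d := by group
    · calc a⁻¹ * v * a * (a⁻¹ * v * a) = a⁻¹ * (v * v) * a := by group
        _ = 1 := by rw [h3]; group
  · rintro ⟨h1, h2, h3⟩
    refine ⟨h1, fun d hd => ?_, ?_⟩
    · rw [mem_cj] at hd
      have := h2 _ hd
      calc d * v = a * ((a⁻¹ * d * a) * (a⁻¹ * v * a)) * a⁻¹ := by group
        _ = a * ((a⁻¹ * v * a) * (a⁻¹ * d * a)) * a⁻¹ := by rw [this]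
        _ = v * d := by group
    · calc v * v = a * (a⁻¹ * v * a * (a⁻¹ * v * a)) * a⁻¹ := by group
        _ = 1 := by rw [h3]; group

/-- the `L`-core of `M`. -/
def coreL (L M : Subgroup G) : Subgroup G := ⨅ h : ↥L, cj h.1 M

theorem mem_coreL {L M : Subgroup G} {k : G} : k ∈ coreL L M ↔ ∀ h ∈ L, k ∈ cj h M := by
  unfold coreL
  rw [Subgroup.mem_iInf]
  exact ⟨fun h x hx => h ⟨x, hx⟩, fun h x => h x.1 x.2⟩

theorem coreL_le (L M : Subgroup G) : coreL L M ≤ M := by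
  intro k hk
  have := mem_coreL.mp hk 1 L.one_mem
  rwa [cj_one] at this

theorem coreL_nz (L M : Subgroup G) : Nz L (coreL L M) := by
  intro l hl k hk
  rw [mem_coreL] at hk ⊢
  intro h hh
  have h1 := hk (l⁻¹ * h) (L.mul_mem (L.inv_mem hl) hh)
  rw [mem_cj] at h1 ⊢
  have e : h⁻¹ * (l * k * l⁻¹) * h = (l⁻¹ * h)⁻¹ * k * (l⁻¹ * h) := by group
  rw [e]; exact h1

/-- Claim (N) from the packages. -/
theorem claimN_of (hZL : PkgZL.{u}) (hNL1 : PkgNL1.{u}) (hNL2 : PkgNL2.{u}) (hNZ : PkgNZ.{u})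
    (hNA : PkgNA.{u}) (hNB : PkgNB.{u}) (hPA : PairAll.{u}) : ClaimN.{u} := by
  intro n IH G _ P₁ P₂ T Q₁ Q₂ a₁ a₂ hcore hn hD
  have z₁ := hZL P₁ T Q₁ a₁
  have z₂ := hZL P₂ T Q₂ a₂
  have hfP₁ : Finite ↥P₁ := a₁.fin
  have hfP₂ : Finite ↥P₂ := a₂.fin
  have hfT : Finite ↥T := Finite.of_injective _ (Subgroup.inclusion_injective a₁.hTH)
  have hfQ₁ : Finite ↥Q₁ := Finite.of_injective _ (Subgroup.inclusion_injective a₁.hQT)
  have hfQ₂ : Finite ↥Q₂ := Finite.of_injective _ (Subgroup.inclusion_injective a₂.hQT)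
  have hnQ₁ : Nz P₁ Q₁ := a₁.hQn
  have hnQ₂ : Nz P₂ Q₂ := a₂.hQn
  -- `Q₂ ≠ ⊥`
  have hQ₂ne : Q₂ ≠ ⊥ := by
    intro h
    obtain ⟨z, hzT, _, _, g, hg, hgz⟩ := a₂.hZ
    have h1 : ∀ x ∈ P₂, x ∈ Q₂ := by
      intro x hx
      apply a₂.hCQ x hx
      intro q hq
      rw [h, Subgroup.mem_bot] at hq
      rw [hq, mul_one, one_mul]
    have hz1 : z = 1 := by
      have := h1 z (a₂.hTH hzT)
      rwa [h, Subgroup.mem_bot] at this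
    apply hgz
    rw [hz1, mul_one, one_mul]
  have hne : Q₂ ≠ Q₁ := by
    intro h
    apply hQ₂ne
    exact hcore Q₂ a₂.hQT (h ▸ hnQ₁) hnQ₂
  -- the subgroup `L`
  obtain ⟨L, hSL, hLP, hnL, hLcard, hLQ⟩ := hNL1 P₁ T Q₁ Q₂ a₁ z₁ a₂.hQT a₂.hTQ hne hD
  have hfL : Finite ↥L := Finite.of_injective _ (Subgroup.inclusion_injective hLP)
  have hcQ₂pos : 0 < Nat.card ↥Q₂ := Nat.card_pos
  have hLT : ¬ L ≤ T := by
    intro h
    have := Subgroup.card_le_of_le h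
    have h2 := a₂.hTQ
    omega
  obtain ⟨l₀, hl₀L, hl₀T⟩ : ∃ l ∈ L, l ∉ T := by
    by_contra hcon
    push Not at hcon
    exact hLT hcon
  have hnLD : Nz L (Q₁ ⊓ Q₂) := nz_mono hD hLP
  have hSD : Nat.card ↥Q₂ = 2 * Nat.card ↥(Q₁ ⊓ Q₂) :=
    card_eq_two_mul_inf a₁.hQT a₂.hQT a₁.hTQ a₂.hTQ hne
  have aL : LAmal L Q₂ (Q₁ ⊓ Q₂) := by
    refine ⟨hfL, inf_le_right, hSL, hnLD, a₂.hT2.to_le a₂.hQT, hSD, hLcard, ?_, ?_, ?_⟩
    · by_contra hcon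
      push Not at hcon
      have h1 : L ≤ Subgroup.normalizer (Q₂ : Set G) := le_normalizer_of_nz hcon
      have h2 : T ≤ Subgroup.normalizer (Q₂ : Set G) :=
        le_normalizer_of_nz (nz_mono hnQ₂ a₂.hTH)
      have h3 : P₁ ≤ Subgroup.normalizer (Q₂ : Set G) :=
        le_of_maxT z₁ a₁.hTH h2 (hLP hl₀L) hl₀T (h1 hl₀L)
      exact hQ₂ne (hcore Q₂ a₂.hQT (nz_of_le_normalizer h3) hnQ₂)
    · intro c hc hcd
      have := hNL2 P₁ T Q₁ Q₂ L a₁ z₁ a₂.hQT a₂.hTQ hne hD hSL hLP hnL hLcard hLQ c hc hcd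
      exact this
    · exact hNZ P₁ P₂ T Q₁ Q₂ L a₁ a₂ z₁ z₂ hcore hSL hLP hLcard
  have zL := hZL L Q₂ (Q₁ ⊓ Q₂) aL
  have ctx : NCtx P₁ P₂ T Q₁ Q₂ L := ⟨a₁, a₂, z₁, z₂, hcore, hD, hSL, hLP, hnL, aL, zL⟩
  have hlt : Nat.card ↥Q₂ < n := by
    have := a₂.hTQ
    omega
  -- elements
  obtain ⟨p, hp, hpT⟩ : ∃ p ∈ P₂, p ∉ T := by
    obtain ⟨p, hp, t, ht, hpt⟩ := a₂.hTn
    exact ⟨p, hp, fun h => hpt (T.mul_mem (T.mul_mem h ht) (T.inv_mem h))⟩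
  obtain ⟨x, hxQ₁, hxQ₂⟩ : ∃ x ∈ Q₁, x ∉ Q₂ := by
    by_contra hcon
    push Not at hcon
    apply hne
    symm
    apply Subgroup.eq_of_le_of_card_ge hcon
    have h1 := a₁.hTQ
    have h2 := a₂.hTQ
    omega
  have hxT : x ∈ T := a₁.hQT hxQ₁
  have hxpP : x * p ∈ P₂ := P₂.mul_mem (a₂.hTH hxT) hp
  have hxpT : x * p ∉ T := by
    intro h
    apply hpT
    have := T.mul_mem (T.inv_mem hxT) h
    simpa using this
  have hpxp : p⁻¹ * (x * p) ∉ T := by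
    intro h
    apply hxQ₂
    apply z₂.inter p⁻¹ (P₂.inv_mem hp) (fun h' => hpT (by simpa using T.inv_mem h')) x hxT
    simpa [mul_assoc] using h
  have pc12 : PairConcl L Q₂ (Q₁ ⊓ Q₂) (cj p (Q₁ ⊓ Q₂)) := by
    have := hPA n IH P₁ P₂ T Q₁ Q₂ L ctx hlt 1 P₂.one_mem p hp (by simpa using hpT)
    rwa [cj_one, cj_one] at this
  have pc13 : PairConcl L Q₂ (Q₁ ⊓ Q₂) (cj (x * p) (Q₁ ⊓ Q₂)) := by
    have := hPA n IH P₁ P₂ T Q₁ Q₂ L ctx hlt 1 P₂.one_mem (x * p) hxpP (by simpa using hxpT)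
    rwa [cj_one, cj_one] at this
  have pc23 := hPA n IH P₁ P₂ T Q₁ Q₂ L ctx hlt p hp (x * p) hxpP hpxp
  -- the Thompson subgroup
  obtain ⟨A, hAS, hAel, hAmax, hAD⟩ := hNA P₁ P₂ T Q₁ Q₂ a₁ a₂ hcore hD
  have hZsV : Zs L Q₂ ≤ omZ (Q₁ ⊓ Q₂) := by
    intro a ha
    exact ⟨zL.le_Q ha, fun d hd => (zL.comm_Q a ha d hd).symm, zL.sq a ha⟩
  have hVel : Cfsg.IsElementaryAbelian 2 (omZ (Q₁ ⊓ Q₂)) :=
    elab_mk (fun v hv w hw => hw.2.1 v hv.1) (fun v hv => hv.2.2)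
  have hADel : Cfsg.IsElementaryAbelian 2 (A ⊓ (Q₁ ⊓ Q₂)) := elab_of_le hAel inf_le_left
  have hBel : Cfsg.IsElementaryAbelian 2 ((A ⊓ (Q₁ ⊓ Q₂)) ⊔ omZ (Q₁ ⊓ Q₂)) :=
    elemAb_sup hADel hVel (fun b hb w hw => hw.2.1 b hb.2)
  have hBD : (A ⊓ (Q₁ ⊓ Q₂)) ⊔ omZ (Q₁ ⊓ Q₂) ≤ Q₁ ⊓ Q₂ := sup_le inf_le_right (omZ_le _)
  have hcjS : ∀ a ∈ P₂, cj a Q₂ = Q₂ := fun a ha => a₂.cjQ ha
  have hD'S : ∀ a ∈ P₂, cj a (Q₁ ⊓ Q₂) ≤ Q₂ := by
    intro a ha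
    have := cj_mono (inf_le_right : Q₁ ⊓ Q₂ ≤ Q₂) a
    rwa [hcjS a ha] at this
  -- the final step for one `a`
  have fin_case : ∀ a ∈ P₂, a ∉ T → PairConcl L Q₂ (Q₁ ⊓ Q₂) (cj a (Q₁ ⊓ Q₂)) →
      (∀ h ∈ L, (A ⊓ (Q₁ ⊓ Q₂)) ⊔ omZ (Q₁ ⊓ Q₂) ≤ cj h ((Q₁ ⊓ Q₂) ⊓ cj a (Q₁ ⊓ Q₂))) →
      False := by
    intro a ha haT pc hB
    have hD'n : Nz Q₂ (cj a (Q₁ ⊓ Q₂)) := by
      intro s hs d hd
      rw [mem_cj] at hd ⊢
      have h1 : a⁻¹ * s * a ∈ Q₂ := by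
        have := hnQ₂ a⁻¹ (P₂.inv_mem ha) s hs
        simpa using this
      have h2 := hD (a⁻¹ * s * a) (a₁.hTH (a₂.hQT h1)) _ hd
      have e : a⁻¹ * (s * d * s⁻¹) * a = a⁻¹ * s * a * (a⁻¹ * d * a) * (a⁻¹ * s * a)⁻¹ := by
        group
      rw [e]; exact h2
    have hD'card : Nat.card ↥(cj a (Q₁ ⊓ Q₂)) = Nat.card ↥(Q₁ ⊓ Q₂) := card_cj a _
    have hD'ne : cj a (Q₁ ⊓ Q₂) ≠ Q₁ ⊓ Q₂ := by
      intro h
      apply pc.i3
      rw [h, inf_idem]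
      exact hnLD
    have hDM : Nat.card ↥(Q₁ ⊓ Q₂) =
        2 * Nat.card ↥(cj a (Q₁ ⊓ Q₂) ⊓ (Q₁ ⊓ Q₂)) :=
      card_eq_two_mul_inf (hD'S a ha) inf_le_right (by rw [hD'card]; exact hSD) hSD
        (fun h => hD'ne h.symm)
    have hgen : ∀ N : Subgroup G, N ≤ L → Nz L N →
        (Q₁ ⊓ Q₂) ⊓ cj a (Q₁ ⊓ Q₂) ≤ N → Q₁ ⊓ Q₂ ≤ N := by
      intro N _ hNn hMN
      have hfD : Finite ↥(Q₁ ⊓ Q₂) :=
        Finite.of_injective _ (Subgroup.inclusion_injective (inf_le_left : Q₁ ⊓ Q₂ ≤ Q₁))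
      have hM1 : (Q₁ ⊓ Q₂) ⊓ cj a (Q₁ ⊓ Q₂) ≤ N ⊓ (Q₁ ⊓ Q₂) := le_inf hMN inf_le_left
      have hM2 : N ⊓ (Q₁ ⊓ Q₂) ≤ Q₁ ⊓ Q₂ := inf_le_right
      have h1 := Subgroup.relIndex_mul_relIndex _ _ _ hM1 hM2
      have h2 : ((Q₁ ⊓ Q₂) ⊓ cj a (Q₁ ⊓ Q₂)).relIndex (Q₁ ⊓ Q₂) = 2 := by
        apply relIndex_eq_of_card inf_le_left
        rw [inf_comm (Q₁ ⊓ Q₂) (cj a (Q₁ ⊓ Q₂))]; exact hDM
      rw [h2] at h1
      have h3 : ((Q₁ ⊓ Q₂) ⊓ cj a (Q₁ ⊓ Q₂)).relIndex (N ⊓ (Q₁ ⊓ Q₂)) = 1 ∨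
          (N ⊓ (Q₁ ⊓ Q₂)).relIndex (Q₁ ⊓ Q₂) = 1 := by
        rcases (Nat.dvd_prime Nat.prime_two).mp ⟨_, h1.symm⟩ with h | h
        · exact Or.inl h
        · right
          rw [h] at h1
          omega
      rcases h3 with h | h
      · exfalso
        rw [Subgroup.relIndex_eq_one] at h
        apply pc.i3
        have : N ⊓ (Q₁ ⊓ Q₂) = (Q₁ ⊓ Q₂) ⊓ cj a (Q₁ ⊓ Q₂) := le_antisymm h hM1
        rw [← this]
        exact nz_inf hNn hnLD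
      · rw [Subgroup.relIndex_eq_one] at h
        exact h.trans inf_le_left
    obtain ⟨g, hgL, s, hs, hgs⟩ := aL.hTn
    have hg : cj g Q₂ ≠ Q₂ := by
      intro h
      apply hgs
      rw [← h]
      exact conj_mem_cj hs
    have hBK : (A ⊓ (Q₁ ⊓ Q₂)) ⊔ omZ (Q₁ ⊓ Q₂) ≤
        coreL L ((Q₁ ⊓ Q₂) ⊓ cj a (Q₁ ⊓ Q₂)) :=
      fun b hb => mem_coreL.mpr (fun h hh => hB h hh hb)
    have key := lemJ_rel L (Q₁ ⊓ Q₂) Q₂ inf_le_right hSL hnLD hSD hLcard g hgL hg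
      (omZ (Q₁ ⊓ Q₂)) (fun v => mem_omZ)
      (fun y hy hyv => zL.cent y hy (fun b hb => hyv b (hZsV hb)))
      (cj a (Q₁ ⊓ Q₂)) (hD'S a ha) hD'n (omZ (cj a (Q₁ ⊓ Q₂))) (fun v => mem_omZ) hgen
      (coreL L ((Q₁ ⊓ Q₂) ⊓ cj a (Q₁ ⊓ Q₂))) (coreL_nz _ _)
      ((coreL_le _ _).trans inf_le_left) ((coreL_le _ _).trans inf_le_right)
      A hAS hAel hAmax hAD hBK
    rw [omZ_cj] at key
    -- `V` is normalized by `a`, `P₁`, hence by `P₂`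
    have hfV : Finite ↥(omZ (Q₁ ⊓ Q₂)) :=
      Finite.of_injective _ (Subgroup.inclusion_injective ((omZ_le _).trans (inf_le_left.trans a₁.hQT)))
    have hVa : cj a (omZ (Q₁ ⊓ Q₂)) = omZ (Q₁ ⊓ Q₂) := by
      apply Subgroup.eq_of_le_of_card_ge key
      rw [card_cj]
    have hV1 : ∀ h ∈ P₁, cj h (omZ (Q₁ ⊓ Q₂)) = omZ (Q₁ ⊓ Q₂) := by
      intro h hh
      rw [← omZ_cj, cj_eq_of_nz hD hh]
    have hP₁V : P₁ ≤ Subgroup.normalizer (omZ (Q₁ ⊓ Q₂) : Set G) :=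
      fun h hh => mem_normalizer_of_cj_eq (hV1 h hh)
    have hP₂V : P₂ ≤ Subgroup.normalizer (omZ (Q₁ ⊓ Q₂) : Set G) :=
      le_of_maxT z₂ a₂.hTH (a₁.hTH.trans hP₁V) ha haT (mem_normalizer_of_cj_eq hVa)
    have hVbot : omZ (Q₁ ⊓ Q₂) = ⊥ :=
      hcore _ ((omZ_le _).trans (inf_le_left.trans a₁.hQT)) (nz_of_le_normalizer hP₁V)
        (nz_of_le_normalizer hP₂V)
    apply zL.ne_bot
    rw [eq_bot_iff, ← hVbot]
    exact hZsV
  have hBexp : ∀ b ∈ (A ⊓ (Q₁ ⊓ Q₂)) ⊔ omZ (Q₁ ⊓ Q₂), b * b = 1 :=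
    fun b hb => elab_sq hBel hb
  rcases hNB L Q₂ (Q₁ ⊓ Q₂) (cj p (Q₁ ⊓ Q₂)) (cj (x * p) (Q₁ ⊓ Q₂))
      ((A ⊓ (Q₁ ⊓ Q₂)) ⊔ omZ (Q₁ ⊓ Q₂)) aL zL (hD'S p hp) (hD'S _ hxpP) pc23.i1 pc12.i2 pc13.i2
      hBD hBexp with h | h
  · exact fin_case p hp hpT pc12 h
  · exact fin_case (x * p) hxpP hxpT pc13 h

end Cfsg.Agent.Lib.Helper45.S3Amal
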