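-- helper45: S2858, claim (N): `Q₁ ⊓ Q₂` is not normal in `P₁` (under the induction hypothesis).
import Cfsg.Agent.Lib.Helper45.S3Amal.NMain
import Cfsg.Agent.Lib.Helper80.Sym.ZL
import Cfsg.Agent.Lib.Helper1.S3Amal.NL1
import Cfsg.Agent.Lib.Helper72.S3Amal.NL2
import Cfsg.Agent.Lib.Helper97.S3Amal.NZ
import Cfsg.Agent.Lib.Helper74.S3Amal.NA
import Cfsg.Agent.Lib.Helper41.S3Amal.NB
import Cfsg.Agent.Lib.Helper41.S3Amal.NI
import Cfsg.Agent.Lib.Helper23.S3Amal.NP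
import Cfsg.Agent.Lib.Helper23.S3Amal.NT
import Cfsg.Agent.Lib.Helper23.S3Amal.NS
import Cfsg.Agent.Lib.Helper35.S3Amal.NC
import Cfsg.Agent.Lib.Helper96.S3Amal.NEA

set_option autoImplicit false

namespace Cfsg.Agent.Lib.Helper45.S3Amal

open Cfsg.Agent.Lib.Helper71.Sym

universe u

/-- The pair facts (all packages plugged in). -/
theorem pairAll : PairAll.{u} :=
  Cfsg.Agent.Lib.Helper23.S3Amal.pkgNP Cfsg.Agent.Lib.Helper23.S3Amal.pkgNT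
    Cfsg.Agent.Lib.Helper80.Sym.pkgZL Cfsg.Agent.Lib.Helper23.S3Amal.pkgNS
    Cfsg.Agent.Lib.Helper35.S3Amal.pkgNC Cfsg.Agent.Lib.Helper96.S3Amal.pkgNEA
    Cfsg.Agent.Lib.Helper41.S3Amal.pkgNI

/-- **Claim (N)**: under the induction hypothesis `IHlt n`, for an `S₃`-amalgam with
`|T| ≤ n`, the subgroup `Q₁ ⊓ Q₂` is not normalized by `P₁`. -/
theorem claimN : ClaimN.{u} :=
  claimN_of Cfsg.Agent.Lib.Helper80.Sym.pkgZL Cfsg.Agent.Lib.Helper1.S3Amal.pkgNL1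
    Cfsg.Agent.Lib.Helper72.S3Amal.pkgNL2 Cfsg.Agent.Lib.Helper97.S3Amal.pkgNZ
    Cfsg.Agent.Lib.Helper74.S3Amal.pkgNA Cfsg.Agent.Lib.Helper41.S3Amal.pkgNB pairAll

end Cfsg.Agent.Lib.Helper45.S3Amal
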